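import Mathlib.GroupTheory.Nilpotent
import Mathlib.Algebra.Group.Subgroup.Order
import Mathlib.GroupTheory.PGroup
import Mathlib.Data.Finset.Card
import Mathlib.Data.Finset.Lattice.Fold

/-!
# Chains of p-subgroups fixed by a p-element

For chains in which every member is normal in the largest one, toggling `insertPoint x s` pairs the
chains fixed by a p-element `x`, all but the chain `{zpowers x}`; paired chains have the same
stabilizer inside the centralizer of `x`.
-/

set_option autoImplicit false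
set_option linter.unusedSectionVars false
set_option maxHeartbeats 400000

namespace CfsgLib.ChainSum

open scoped Classical

variable {G : Type*} [Group G] [Finite G] {p : ℕ}

/-- Nonempty chains of nontrivial p-subgroups with every member normal in the largest. -/
def IsChainP (p : ℕ) (s : Finset (Subgroup G)) : Prop :=
  s.Nonempty ∧ (∀ Q ∈ s, ∀ R ∈ s, Q ≤ R ∨ R ≤ Q) ∧ (∀ Q ∈ s, Q ≠ ⊥ ∧ IsPGroup p Q) ∧
    ∃ T ∈ s, ∀ Q ∈ s, Q ≤ T ∧ T ≤ Subgroup.normalizer ((Q : Subgroup G) : Set G)

/-- The stabilizer of a chain. -/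
abbrev stabN (s : Finset (Subgroup G)) : Subgroup G :=
  ⨅ Q ∈ s, Subgroup.normalizer ((Q : Subgroup G) : Set G)

theorem mem_stabN {s : Finset (Subgroup G)} {g : G} :
    g ∈ stabN s ↔ ∀ Q ∈ s, g ∈ Subgroup.normalizer ((Q : Subgroup G) : Set G) := by
  simp [stabN, Subgroup.mem_iInf]

/-- The conjugates of `x` under `T`. -/
def conjSet (T : Subgroup G) (x : G) : Set G := {y | ∃ t ∈ T, t * x * t⁻¹ = y}

/-- The largest member avoiding `x`. -/
noncomputable def avoid (x : G) (s : Finset (Subgroup G)) : Subgroup G :=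
  (s.filter fun Q : Subgroup G => x ∉ Q).sup id

/-- The point to toggle. -/
noncomputable def insertPoint (x : G) (s : Finset (Subgroup G)) : Subgroup G :=
  if x ∈ s.sup id then avoid x s ⊔ Subgroup.closure (conjSet (s.sup id) x)
  else s.sup id ⊔ Subgroup.zpowers x

/-- The pairing of chains. -/
noncomputable def toggle (x : G) (s : Finset (Subgroup G)) : Finset (Subgroup G) :=
  if insertPoint x s ∈ s then s.erase (insertPoint x s) else insert (insertPoint x s) s

theorem sup_mem_of_chain {s : Finset (Subgroup G)} (hne : s.Nonempty)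
    (h : ∀ Q ∈ s, ∀ R ∈ s, Q ≤ R ∨ R ≤ Q) : s.sup id ∈ s := by
  obtain ⟨m, hm, hmax⟩ := Finset.exists_maximal hne
  have hall : ∀ Q ∈ s, Q ≤ m := fun Q hQ => (h Q hQ m hm).elim id fun hle => hmax hQ hle
  rw [le_antisymm (Finset.sup_le (f := id) fun Q hQ => hall Q hQ) (Finset.le_sup (f := id) hm)]
  exact hm

theorem IsChainP.sup_mem {s : Finset (Subgroup G)} (hs : IsChainP p s) : s.sup id ∈ s :=
  sup_mem_of_chain hs.1 hs.2.1

theorem IsChainP.le_normalizer {s : Finset (Subgroup G)} (hs : IsChainP p s) {Q : Subgroup G}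
    (hQ : Q ∈ s) : s.sup id ≤ Subgroup.normalizer ((Q : Subgroup G) : Set G) := by
  obtain ⟨T, hT, hall⟩ := hs.2.2.2
  rw [le_antisymm (Finset.sup_le (f := id) fun R hR => (hall R hR).1) (Finset.le_sup (f := id) hT)]
  exact (hall Q hQ).2

theorem IsChainP.isPGroup_sup {s : Finset (Subgroup G)} (hs : IsChainP p s) :
    IsPGroup p (s.sup id : Subgroup G) :=
  (hs.2.2.1 _ hs.sup_mem).2

theorem IsChainP.le_stabN {s : Finset (Subgroup G)} (hs : IsChainP p s) : s.sup id ≤ stabN s :=
  fun _ hg => mem_stabN.2 fun _ hQ => hs.le_normalizer hQ hg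

theorem IsChainP.centralizer_le_stabN {s : Finset (Subgroup G)} (hs : IsChainP p s) :
    Subgroup.centralizer ((s.sup id : Subgroup G) : Set G) ≤ stabN s := fun _ hg =>
  mem_stabN.2 fun _ hQ => Subgroup.centralizer_le_normalizer _
    (Subgroup.centralizer_le (SetLike.coe_subset_coe.2 (Finset.le_sup (f := id) hQ)) hg)

theorem IsChainP.stabN_le {s : Finset (Subgroup G)} (hs : IsChainP p s) :
    stabN s ≤ Subgroup.normalizer ((s.sup id : Subgroup G) : Set G) :=
  fun _ hg => mem_stabN.1 hg _ hs.sup_mem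

/-- Frattini: a p-group generated over a normal subgroup by conjugates of `x` is generated over
it by `x`. -/
theorem sup_zpowers_eq [Fact p.Prime] {T A : Subgroup G} (hT : IsPGroup p T) {x : G} (hx : x ∈ T)
    (hA : A ≤ T) (h : A ⊔ Subgroup.closure (conjSet T x) = T) : A ⊔ Subgroup.zpowers x = T := by
  set U := A ⊔ Subgroup.zpowers x with hU
  have hUT : U ≤ T := sup_le hA (Subgroup.zpowers_le.2 hx)
  by_contra hne
  have hne' : U.subgroupOf T ≠ ⊤ := fun h' =>
    hne (le_antisymm hUT (Subgroup.subgroupOf_eq_top.1 h'))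
  obtain ⟨K, hK, hle⟩ := (eq_top_or_exists_le_coatom (U.subgroupOf T)).resolve_left hne'
  haveI := hT.isNilpotent
  haveI : K.Normal := Subgroup.NormalizerCondition.normal_of_coatom K Group.normalizerCondition_of_isNilpotent hK
  refine hK.1 (eq_top_iff.2 fun t _ => ?_)
  have hxK : (⟨x, hx⟩ : T) ∈ K :=
    hle (Subgroup.mem_subgroupOf.2 (Subgroup.mem_sup_right (Subgroup.mem_zpowers x)))
  have hle2 : T ≤ K.map T.subtype := by
    refine h.symm.le.trans (sup_le (fun a ha => ⟨⟨a, hA ha⟩,
      hle (Subgroup.mem_subgroupOf.2 (Subgroup.mem_sup_left ha)), rfl⟩) ?_)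
    rw [Subgroup.closure_le]
    rintro y ⟨t, ht, rfl⟩
    exact ⟨⟨t, ht⟩ * ⟨x, hx⟩ * ⟨t, ht⟩⁻¹, Subgroup.Normal.conj_mem inferInstance _ hxK _, rfl⟩
  obtain ⟨k, hk, hkt⟩ := hle2 t.2
  rwa [← Subtype.ext hkt]

theorem avoid_mem_or {x : G} {s : Finset (Subgroup G)}
    (h : ∀ Q ∈ s, ∀ R ∈ s, Q ≤ R ∨ R ≤ Q) :
    avoid x s = ⊥ ∨ avoid x s ∈ s ∧ x ∉ avoid x s := by
  unfold avoid
  rcases (s.filter fun Q : Subgroup G => x ∉ Q).eq_empty_or_nonempty with h0 | h0
  · exact Or.inl (by rw [h0, Finset.sup_empty])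
  · exact Or.inr (Finset.mem_filter.1 (sup_mem_of_chain h0 fun Q hQ R hR =>
      h Q (Finset.mem_filter.1 hQ).1 R (Finset.mem_filter.1 hR).1))

theorem conj_mem_normalizer_closure {T : Subgroup G} {x g : G}
    (hg : g ∈ Subgroup.normalizer (T : Set G)) (hgx : g * x * g⁻¹ = x) :
    g ∈ Subgroup.normalizer ((Subgroup.closure (conjSet T x) : Subgroup G) : Set G) := by
  refine Subgroup.mem_normalizer_iff_map_conj_eq.2 ?_
  rw [MonoidHom.map_closure]
  congr 1
  ext y
  constructor
  · rintro ⟨-, ⟨t, ht, rfl⟩, rfl⟩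
    refine ⟨g * t * g⁻¹, (Subgroup.mem_normalizer_iff.1 hg t).1 ht, ?_⟩
    show _ = g * (t * x * t⁻¹) * g⁻¹
    conv_lhs => rw [← hgx]
    group
  · rintro ⟨t, ht, rfl⟩
    refine ⟨(g⁻¹ * t * g) * x * (g⁻¹ * t * g)⁻¹, ⟨_, ?_, rfl⟩, ?_⟩
    · exact (Subgroup.mem_normalizer_iff.1 hg _).2 (by simpa [mul_assoc] using ht)
    · show g * (g⁻¹ * t * g * x * (g⁻¹ * t * g)⁻¹) * g⁻¹ = _
      conv_rhs => rw [← hgx]
      group

theorem mem_normalizer_closure {T : Subgroup G} {x t : G} (ht : t ∈ T) :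
    t ∈ Subgroup.normalizer ((Subgroup.closure (conjSet T x) : Subgroup G) : Set G) := by
  refine Subgroup.mem_normalizer_iff_map_conj_eq.2 ?_
  rw [MonoidHom.map_closure]
  congr 1
  ext y
  constructor
  · rintro ⟨-, ⟨u, hu, rfl⟩, rfl⟩
    refine ⟨t * u, mul_mem ht hu, ?_⟩
    show _ = t * (u * x * u⁻¹) * t⁻¹
    group
  · rintro ⟨u, hu, rfl⟩
    refine ⟨(t⁻¹ * u) * x * (t⁻¹ * u)⁻¹, ⟨_, mul_mem (inv_mem ht) hu, rfl⟩, ?_⟩
    show t * (t⁻¹ * u * x * (t⁻¹ * u)⁻¹) * t⁻¹ = _
    group

theorem mem_normalizer_sup {A K : Subgroup G} {g : G} (hA : g ∈ Subgroup.normalizer (A : Set G))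
    (hK : g ∈ Subgroup.normalizer (K : Set G)) :
    g ∈ Subgroup.normalizer ((A ⊔ K : Subgroup G) : Set G) := by
  rw [Subgroup.mem_normalizer_iff_map_conj_eq] at *
  rw [Subgroup.map_sup, hA, hK]

variable {x : G} {s : Finset (Subgroup G)}

theorem self_mem_conjSet (T : Subgroup G) : x ∈ conjSet T x := ⟨1, one_mem T, by group⟩

theorem mem_insertPoint : x ∈ insertPoint x s := by
  unfold insertPoint
  split_ifs
  · exact Subgroup.mem_sup_right (Subgroup.subset_closure (self_mem_conjSet _))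
  · exact Subgroup.mem_sup_right (Subgroup.mem_zpowers x)

theorem avoid_le_insertPoint : avoid x s ≤ insertPoint x s := by
  unfold insertPoint
  split_ifs
  · exact le_sup_left
  · exact le_sup_of_le_left (Finset.sup_mono (Finset.filter_subset _ _))

theorem closure_conjSet_le {T Q : Subgroup G} (hTQ : T ≤ Subgroup.normalizer (Q : Set G))
    (hx : x ∈ Q) : Subgroup.closure (conjSet T x) ≤ Q := by
  rw [Subgroup.closure_le]
  rintro y ⟨t, ht, rfl⟩
  exact (Subgroup.mem_normalizer_iff.1 (hTQ ht) x).1 hx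

theorem le_avoid {Q : Subgroup G} (hQ : Q ∈ s) (hx : x ∉ Q) : Q ≤ avoid x s := by
  exact Finset.le_sup (f := id) (Finset.mem_filter.2 ⟨hQ, hx⟩)

theorem insertPoint_le (hs : IsChainP p s) {Q : Subgroup G} (hQ : Q ∈ s) (hx : x ∈ Q) :
    insertPoint x s ≤ Q := by
  have hxT : x ∈ s.sup id := Finset.le_sup (f := id) hQ hx
  rw [insertPoint, if_pos hxT]
  refine sup_le (Finset.sup_le fun R hR => ?_) (closure_conjSet_le (hs.le_normalizer hQ) hx)
  obtain ⟨hR, hxR⟩ := Finset.mem_filter.1 hR
  exact (hs.2.1 R hR Q hQ).resolve_right fun h => hxR (h hx)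

theorem comparable_insertPoint (hs : IsChainP p s) {Q : Subgroup G} (hQ : Q ∈ s) :
    Q ≤ insertPoint x s ∨ insertPoint x s ≤ Q := by
  by_cases hx : x ∈ Q
  · exact Or.inr (insertPoint_le hs hQ hx)
  · exact Or.inl ((le_avoid hQ hx).trans avoid_le_insertPoint)

theorem mem_normalizer_avoid {g : G} (hs : IsChainP p s) (hg : g ∈ stabN s) :
    g ∈ Subgroup.normalizer ((avoid x s : Subgroup G) : Set G) := by
  rcases avoid_mem_or hs.2.1 (x := x) with h | h
  · rw [h]
    exact Subgroup.mem_normalizer_iff.2 fun y => by simp [Subgroup.mem_bot]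
  · exact mem_stabN.1 hg _ h.1

/-- Elements of the stabilizer centralizing `x` normalize the new point. -/
theorem mem_normalizer_insertPoint {g : G} (hs : IsChainP p s) (hg : g ∈ stabN s)
    (hgx : g * x * g⁻¹ = x) :
    g ∈ Subgroup.normalizer ((insertPoint x s : Subgroup G) : Set G) := by
  unfold insertPoint
  split_ifs
  · exact mem_normalizer_sup (mem_normalizer_avoid hs hg)
      (conj_mem_normalizer_closure (hs.stabN_le hg) hgx)
  · refine mem_normalizer_sup (hs.stabN_le hg) (Subgroup.mem_normalizer_iff_map_conj_eq.2 ?_)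
    rw [MonoidHom.map_zpowers]
    congr 1

theorem insertPoint_ne_bot (hx1 : x ≠ 1) : insertPoint x s ≠ ⊥ := fun h =>
  hx1 (Subgroup.mem_bot.1 (h ▸ mem_insertPoint (x := x) (s := s)))

variable [Fact p.Prime]

theorem isChainP_insert (hs : IsChainP p s) (hx : ∃ k, orderOf x = p ^ k)
    (hx1 : x ≠ 1) (hxN : x ∈ stabN s) : IsChainP p (insert (insertPoint x s) s) := by
  have hcmp := fun Q (hQ : Q ∈ s) => comparable_insertPoint (x := x) hs hQ
  refine ⟨Finset.insert_nonempty _ _, ?_, ?_, ?_⟩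
  · intro Q hQ R hR
    rcases Finset.mem_insert.1 hQ with rfl | hQ <;> rcases Finset.mem_insert.1 hR with rfl | hR
    · exact Or.inl le_rfl
    · exact (hcmp R hR).symm
    · exact hcmp Q hQ
    · exact hs.2.1 Q hQ R hR
  · intro Q hQ
    rcases Finset.mem_insert.1 hQ with rfl | hQ
    · refine ⟨insertPoint_ne_bot hx1, ?_⟩
      by_cases hxT : x ∈ s.sup id
      · exact hs.isPGroup_sup.to_le (insertPoint_le hs hs.sup_mem hxT)
      · obtain ⟨k, hk⟩ := hx
        rw [insertPoint, if_neg hxT]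
        exact hs.isPGroup_sup.to_sup_of_normal_left' (IsPGroup.of_card (n := k)
          (by rw [Nat.card_zpowers, hk])) (Subgroup.zpowers_le.2 (hs.stabN_le hxN))
    · exact hs.2.2.1 Q hQ
  · by_cases hxT : x ∈ s.sup id
    · refine ⟨s.sup id, Finset.mem_insert_of_mem hs.sup_mem, fun Q hQ => ?_⟩
      rcases Finset.mem_insert.1 hQ with rfl | hQ
      · refine ⟨insertPoint_le hs hs.sup_mem hxT, fun t ht => ?_⟩
        rw [insertPoint, if_pos hxT]
        exact mem_normalizer_sup (mem_normalizer_avoid hs (hs.le_stabN ht))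
          (mem_normalizer_closure ht)
      · exact ⟨Finset.le_sup (f := id) hQ, hs.le_normalizer hQ⟩
    · refine ⟨insertPoint x s, Finset.mem_insert_self _ _, fun Q hQ => ?_⟩
      rcases Finset.mem_insert.1 hQ with rfl | hQ
      · exact ⟨le_rfl, Subgroup.le_normalizer⟩
      · refine ⟨(hcmp Q hQ).elim id fun h => absurd (Finset.le_sup (f := id) hQ
          (h mem_insertPoint)) hxT, ?_⟩
        rw [insertPoint, if_neg hxT]
        exact sup_le (hs.le_normalizer hQ) (Subgroup.zpowers_le.2 (mem_stabN.1 hxN Q hQ))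

theorem insertPoint_insert (hs : IsChainP p s) :
    insertPoint x (insert (insertPoint x s) s) = insertPoint x s := by
  have hR : avoid x (insert (insertPoint x s) s) = avoid x s := by
    unfold avoid
    congr 1
    ext Q
    simp only [Finset.mem_filter, Finset.mem_insert]
    refine ⟨fun h => ⟨h.1.resolve_left fun h' => h.2 (h' ▸ mem_insertPoint), h.2⟩,
      fun h => ⟨Or.inr h.1, h.2⟩⟩
  have hsup : (insert (insertPoint x s) s).sup id = insertPoint x s ⊔ s.sup id := by
    rw [Finset.sup_insert]; rfl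
  conv_lhs => rw [insertPoint, if_pos (hsup ▸ Subgroup.mem_sup_left mem_insertPoint), hR]
  by_cases hxT : x ∈ s.sup id
  · rw [hsup, sup_eq_right.2 (insertPoint_le hs hs.sup_mem hxT)]
    conv_rhs => rw [insertPoint, if_pos hxT]
  · have hle : s.sup id ≤ insertPoint x s := by
      rw [insertPoint, if_neg hxT]; exact le_sup_left
    have hav : avoid x s = s.sup id := le_antisymm (Finset.sup_mono (Finset.filter_subset _ _))
      (le_avoid hs.sup_mem hxT)
    rw [hsup, sup_eq_left.2 hle, hav]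
    refine le_antisymm (sup_le hle (closure_conjSet_le Subgroup.le_normalizer mem_insertPoint)) ?_
    conv_lhs => rw [insertPoint, if_neg hxT]
    exact sup_le_sup_left (Subgroup.zpowers_le.2 (Subgroup.subset_closure (self_mem_conjSet _))) _

theorem isChainP_erase (hs : IsChainP p s) {R : Subgroup G}
    (hne : (s.erase R).Nonempty) : IsChainP p (s.erase R) := by
  refine ⟨hne, fun Q hQ Q' hQ' => hs.2.1 Q (Finset.mem_of_mem_erase hQ) Q'
    (Finset.mem_of_mem_erase hQ'), fun Q hQ => hs.2.2.1 Q (Finset.mem_of_mem_erase hQ), ?_⟩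
  refine ⟨(s.erase R).sup id, sup_mem_of_chain hne fun Q hQ Q' hQ' =>
    hs.2.1 Q (Finset.mem_of_mem_erase hQ) Q' (Finset.mem_of_mem_erase hQ'),
    fun Q hQ => ⟨Finset.le_sup (f := id) hQ, ?_⟩⟩
  exact (Finset.sup_mono (Finset.erase_subset _ _)).trans
    (hs.le_normalizer (Finset.mem_of_mem_erase hQ))

theorem eq_zpowers_of_erase_empty (hs : IsChainP p s)
    (hR : insertPoint x s ∈ s) (he : s.erase (insertPoint x s) = ∅) : s = {Subgroup.zpowers x} := by
  have hs' : s = {insertPoint x s} := by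
    have h := Finset.insert_erase hR
    rw [he] at h
    simpa using h.symm
  set T := insertPoint x s with hT
  have hsup : s.sup id = T := by rw [hs', Finset.sup_singleton]; rfl
  have hav : avoid x s = ⊥ := by
    rw [avoid, hs', Finset.filter_singleton, if_neg (not_not_intro mem_insertPoint),
      Finset.sup_empty]
  have hxT : x ∈ s.sup id := hsup ▸ mem_insertPoint
  have hcl : (⊥ : Subgroup G) ⊔ Subgroup.closure (conjSet T x) = T := by
    conv_rhs => rw [hT, insertPoint, if_pos hxT, hav, hsup]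
  have := sup_zpowers_eq (A := ⊥) (hs.2.2.1 T hR).2 mem_insertPoint bot_le hcl
  rw [bot_sup_eq] at this
  rw [hs', this]

theorem insertPoint_erase (hs : IsChainP p s)
    (hR : insertPoint x s ∈ s) (hne : (s.erase (insertPoint x s)).Nonempty) :
    insertPoint x (s.erase (insertPoint x s)) = insertPoint x s := by
  set T := insertPoint x s with hT
  have hav : avoid x (s.erase T) = avoid x s := by
    unfold avoid
    congr 1
    ext Q
    simp only [Finset.mem_filter, Finset.mem_erase]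
    exact ⟨fun h => ⟨h.1.2, h.2⟩, fun h => ⟨⟨fun h' => h.2 (h' ▸ mem_insertPoint), h.1⟩, h.2⟩⟩
  have hxT : x ∈ s.sup id := Finset.le_sup (f := id) hR mem_insertPoint
  by_cases htop : T = s.sup id
  · have hnx : ∀ Q ∈ s.erase T, x ∉ Q := fun Q hQ hxQ => (Finset.mem_erase.1 hQ).1
      (le_antisymm (htop.symm ▸ Finset.le_sup (f := id) (Finset.mem_of_mem_erase hQ))
        (insertPoint_le hs (Finset.mem_of_mem_erase hQ) hxQ))
    have hsup : (s.erase T).sup id = avoid x s := by
      rw [← hav, avoid, Finset.filter_true_of_mem hnx]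
    have hmem := sup_mem_of_chain hne fun Q hQ Q' hQ' =>
      hs.2.1 Q (Finset.mem_of_mem_erase hQ) Q' (Finset.mem_of_mem_erase hQ')
    rw [hsup] at hmem
    rw [insertPoint, if_neg (hsup.symm ▸ hnx _ hmem), hsup]
    refine sup_zpowers_eq (hs.2.2.1 T hR).2 mem_insertPoint avoid_le_insertPoint ?_
    conv_rhs => rw [hT, insertPoint, if_pos hxT, ← htop]
  · have hsup : (s.erase T).sup id = s.sup id :=
      le_antisymm (Finset.sup_mono (Finset.erase_subset _ _))
        (Finset.le_sup (f := id) (Finset.mem_erase.2 ⟨fun h => htop h.symm, hs.sup_mem⟩))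
    conv_rhs => rw [hT, insertPoint, if_pos hxT]
    rw [insertPoint, hsup, if_pos hxT, hav]

theorem toggle_spec (hs : IsChainP p s) (hx : ∃ k, orderOf x = p ^ k)
    (hx1 : x ≠ 1) (hxN : x ∈ stabN s) (hne : s ≠ {Subgroup.zpowers x}) :
    IsChainP p (toggle x s) ∧ toggle x (toggle x s) = s ∧ toggle x s ≠ s ∧
      (toggle x s ≠ {Subgroup.zpowers x}) ∧
      (-1 : ℤ) ^ ((toggle x s).card - 1) = - (-1 : ℤ) ^ (s.card - 1) ∧
      ∀ g : G, g * x * g⁻¹ = x → (g ∈ stabN (toggle x s) ↔ g ∈ stabN s) := by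
  have hc : 1 ≤ s.card := hs.1.card_pos
  by_cases hR : insertPoint x s ∈ s
  · have hf : toggle x s = s.erase (insertPoint x s) := if_pos hR
    have hne' : (s.erase (insertPoint x s)).Nonempty :=
      Finset.nonempty_iff_ne_empty.2 fun h => hne (eq_zpowers_of_erase_empty hs hR h)
    have hI := insertPoint_erase hs hR hne'
    have hchain := isChainP_erase hs hne'
    have hcard := Finset.card_erase_of_mem hR
    have hc' : 1 ≤ (s.erase (insertPoint x s)).card := hne'.card_pos
    rw [hf]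
    refine ⟨hchain, ?_, fun h => ?_, fun h => ?_, ?_, fun g hgx => ⟨fun hg => mem_stabN.2
      fun Q hQ => ?_, fun hg => mem_stabN.2 fun Q hQ =>
        mem_stabN.1 hg Q (Finset.mem_of_mem_erase hQ)⟩⟩
    · unfold toggle
      rw [hI, if_neg (Finset.notMem_erase _ _)]
      exact Finset.insert_erase hR
    · exact Finset.notMem_erase (insertPoint x s) s (by rw [h]; exact hR)
    · have h1 : Subgroup.zpowers x ∈ s.erase (insertPoint x s) := by rw [h]; simp
      obtain ⟨h2, h3⟩ := Finset.mem_erase.1 h1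
      exact h2 (le_antisymm (Subgroup.zpowers_le.2 mem_insertPoint)
        (insertPoint_le hs h3 (Subgroup.mem_zpowers x)))
    · rw [hcard]
      obtain ⟨m, hm⟩ : ∃ m, s.card = m + 2 := ⟨s.card - 2, by omega⟩
      rw [hm, show m + 2 - 1 = m + 1 by omega, show m + 1 - 1 = m by omega, pow_succ]
      ring
    · by_cases hQR : Q = insertPoint x s
      · rw [hQR, ← hI]
        exact mem_normalizer_insertPoint hchain hg hgx
      · exact mem_stabN.1 hg Q (Finset.mem_erase.2 ⟨hQR, hQ⟩)
  · have hf : toggle x s = insert (insertPoint x s) s := if_neg hR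
    have hI := insertPoint_insert (x := x) hs
    have hcard := Finset.card_insert_of_notMem hR
    rw [hf]
    refine ⟨isChainP_insert hs hx hx1 hxN, ?_, fun h => ?_, fun h => ?_, ?_, fun g hgx =>
      ⟨fun hg => mem_stabN.2 fun Q hQ => mem_stabN.1 hg Q (Finset.mem_insert_of_mem hQ),
      fun hg => mem_stabN.2 fun Q hQ => ?_⟩⟩
    · unfold toggle
      rw [hI, if_pos (Finset.mem_insert_self _ _)]
      exact Finset.erase_insert hR
    · exact hR ((congrArg (fun t => insertPoint x s ∈ t) h).mp (Finset.mem_insert_self _ _))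
    · rw [h, Finset.card_singleton] at hcard
      omega
    · rw [hcard]
      obtain ⟨m, hm⟩ : ∃ m, s.card = m + 1 := ⟨s.card - 1, by omega⟩
      rw [hm, show m + 1 + 1 - 1 = m + 1 by omega, show m + 1 - 1 = m by omega, pow_succ]
      ring
    · rcases Finset.mem_insert.1 hQ with rfl | hQ
      · exact mem_normalizer_insertPoint hs hg hgx
      · exact mem_stabN.1 hg Q hQ

theorem isChainP_zpowers (hx : ∃ k, orderOf x = p ^ k) (hx1 : x ≠ 1) :
    IsChainP p {Subgroup.zpowers x} := by
  obtain ⟨k, hk⟩ := hx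
  refine ⟨Finset.singleton_nonempty _, by simp, fun Q hQ => ?_, Subgroup.zpowers x, by simp,
    fun Q hQ => ?_⟩ <;> obtain rfl := Finset.mem_singleton.1 hQ
  · exact ⟨fun h => hx1 (Subgroup.mem_bot.1 (h ▸ Subgroup.mem_zpowers x)),
      IsPGroup.of_card (n := k) (by rw [Nat.card_zpowers, hk])⟩
  · exact ⟨le_rfl, Subgroup.le_normalizer⟩

end CfsgLib.ChainSum
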