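import Cfsg.Agent.ChainSum.Local
import Cfsg.Agent.ChainSum.Chains

/-!
# The alternating sum of characters minus regular rank over chains

`sum_chains`: for a p-singular element the squared values of the blocks over a block, summed with
signs over the chains it fixes, give the squared values of the block.
-/

set_option autoImplicit false
set_option linter.unusedSectionVars false
set_option linter.style.haveILetI false
set_option maxHeartbeats 800000

namespace CfsgLib.ChainSum

open Cfsg CfsgLib.Blocks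
open scoped ComplexConjugate Classical

universe u

variable {G : Type u} [Group G] [Fintype G] {M : Ideal AlgInt} [M.IsPrime] {p : ℕ} [Fact p.Prime]

/-- The centralizer of `x` in `H` is that of `x` in `K`, when they agree as sets. -/
def centEquiv {H K : Subgroup G} {x : G} (hxH : x ∈ H) (hxK : x ∈ K)
    (h : ∀ g : G, g * x * g⁻¹ = x → (g ∈ H ↔ g ∈ K)) :
    Subgroup.centralizer ({(⟨x, hxH⟩ : H)} : Set H) ≃*
      Subgroup.centralizer ({(⟨x, hxK⟩ : K)} : Set K) where
  toFun c := ⟨⟨((c : H) : G), (h _ (mul_inv_eq_iff_eq_mul.2 (congrArg Subtype.val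
      (Subgroup.mem_centralizer_singleton_iff.1 c.2)))).1 (c : H).2⟩,
    Subgroup.mem_centralizer_singleton_iff.2 (Subtype.ext (by
      have e := congrArg Subtype.val (Subgroup.mem_centralizer_singleton_iff.1 c.2)
      exact e))⟩
  invFun c := ⟨⟨((c : K) : G), (h _ (mul_inv_eq_iff_eq_mul.2 (congrArg Subtype.val
      (Subgroup.mem_centralizer_singleton_iff.1 c.2)))).2 (c : K).2⟩,
    Subgroup.mem_centralizer_singleton_iff.2 (Subtype.ext (by
      have e := congrArg Subtype.val (Subgroup.mem_centralizer_singleton_iff.1 c.2)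
      exact e))⟩
  left_inv _ := rfl
  right_inv _ := rfl
  map_mul' _ _ := rfl

theorem centEquiv_coe {H K : Subgroup G} {x : G} (hxH : x ∈ H) (hxK : x ∈ K)
    (h : ∀ g : G, g * x * g⁻¹ = x → (g ∈ H ↔ g ∈ K))
    (g : Subgroup.centralizer ({(⟨x, hxH⟩ : H)} : Set H)) :
    (((centEquiv hxH hxK h g) : K) : G) = ((g : H) : G) := rfl

theorem inducedBlockDefined_stabN (hM : Cfsg.IsPModular p M) {s : Finset (Subgroup G)}
    (hs : IsChainP p s) [Fintype (stabN s)] (ψ : IrrCharacter (stabN s)) :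
    Cfsg.InducedBlockDefined M (stabN s) (Cfsg.blockOf M (ψ : stabN s → ℂ)) :=
  inducedBlockDefined_of_local hM hs.isPGroup_sup hs.le_stabN hs.centralizer_le_stabN hs.stabN_le
    (isPBlock_blockOf ψ)

/-- The squared values at a p-singular `h`, through the centralizer of its p-part. -/
theorem sqVal_eq_of_iff (hM : Cfsg.IsPModular p M) {B : Set (IrrCharacter G)}
    (hB : Cfsg.IsPBlock M B) {s t : Finset (Subgroup G)} (hs : IsChainP p s) (ht : IsChainP p t)
    [Fintype (stabN s)] [Fintype (stabN t)] {x y : G} (hxy : Commute x y)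
    (hx : ∃ k, orderOf x = p ^ k) (hy : ¬ p ∣ orderOf y) (hxs : x ∈ stabN s) (hxt : x ∈ stabN t)
    (hys : y ∈ stabN s) (hyt : y ∈ stabN t)
    (h : ∀ g : G, g * x * g⁻¹ = x → (g ∈ stabN t ↔ g ∈ stabN s)) :
    sqVal M (resCtr (stabN s) (idemBar M B (isBlockUnion_of_isPBlock hB)))
        ⟨x * y, mul_mem hxs hys⟩ =
      sqVal M (resCtr (stabN t) (idemBar M B (isBlockUnion_of_isPBlock hB)))
        ⟨x * y, mul_mem hxt hyt⟩ := by
  haveI := Fintype.ofFinite (Subgroup.centralizer ({(⟨x, hxs⟩ : stabN s)} : Set (stabN s)))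
  haveI := Fintype.ofFinite (Subgroup.centralizer ({(⟨x, hxt⟩ : stabN t)} : Set (stabN t)))
  let ys : Subgroup.centralizer ({(⟨x, hxs⟩ : stabN s)} : Set (stabN s)) :=
    ⟨⟨y, hys⟩, Subgroup.mem_centralizer_singleton_iff.2 (Subtype.ext hxy.eq.symm)⟩
  let yt : Subgroup.centralizer ({(⟨x, hxt⟩ : stabN t)} : Set (stabN t)) :=
    ⟨⟨y, hyt⟩, Subgroup.mem_centralizer_singleton_iff.2 (Subtype.ext hxy.eq.symm)⟩
  have hxs' : ∃ k, orderOf (⟨x, hxs⟩ : stabN s) = p ^ k := by
    simpa [← Subgroup.orderOf_coe] using hx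
  have hxt' : ∃ k, orderOf (⟨x, hxt⟩ : stabN t) = p ^ k := by
    simpa [← Subgroup.orderOf_coe] using hx
  have hys' : ¬ p ∣ orderOf ys := by
    rw [← Subgroup.orderOf_coe, ← Subgroup.orderOf_coe]; exact hy
  have hyt' : ¬ p ∣ orderOf yt := by
    rw [← Subgroup.orderOf_coe, ← Subgroup.orderOf_coe]; exact hy
  rw [show (⟨x * y, mul_mem hxs hys⟩ : stabN s) = ⟨x, hxs⟩ * (ys : stabN s) from rfl,
    show (⟨x * y, mul_mem hxt hyt⟩ : stabN t) = ⟨x, hxt⟩ * (yt : stabN t) from rfl,
    sqVal_section hM (stabN s) (inducedBlockDefined_stabN hM hs) hB hxs' hys',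
    sqVal_section hM (stabN t) (inducedBlockDefined_stabN hM ht) hB hxt' hyt']
  let e := centEquiv hxs hxt fun g hg => (h g hg).symm
  have hcoe : ∀ g, (((e g) : stabN t) : G) = ((g : stabN s) : G) := centEquiv_coe hxs hxt _
  have he : e ys = yt := Subtype.ext (Subtype.ext (hcoe ys))
  rw [← he]
  exact sqVal_congr e (fun g => by
    rw [coeff_resCtr, coeff_resCtr, coeff_resCtr, coeff_resCtr, hcoe]) ys

/-- The value at the chain `{zpowers x}`. -/
theorem sqVal_zpowers (hM : Cfsg.IsPModular p M) {B : Set (IrrCharacter G)}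
    (hB : Cfsg.IsPBlock M B) {x y : G} (hxy : Commute x y) (hx : ∃ k, orderOf x = p ^ k)
    (hx1 : x ≠ 1) (hy : ¬ p ∣ orderOf y) [Fintype (stabN ({Subgroup.zpowers x} : Finset (Subgroup G)))]
    (hxs : x ∈ stabN ({Subgroup.zpowers x} : Finset (Subgroup G)))
    (hys : y ∈ stabN ({Subgroup.zpowers x} : Finset (Subgroup G))) :
    sqVal M (resCtr (stabN ({Subgroup.zpowers x} : Finset (Subgroup G)))
        (idemBar M B (isBlockUnion_of_isPBlock hB))) ⟨x * y, mul_mem hxs hys⟩ =
      sqVal M (idemBar M B (isBlockUnion_of_isPBlock hB)) (x * y) := by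
  haveI := Fintype.ofFinite (Subgroup.centralizer ({(⟨x, hxs⟩ : (stabN ({Subgroup.zpowers x} : Finset (Subgroup G))))} : Set (stabN ({Subgroup.zpowers x} : Finset (Subgroup G)))))
  haveI := Fintype.ofFinite (Subgroup.centralizer ({x} : Set G))
  let ys : Subgroup.centralizer ({(⟨x, hxs⟩ : (stabN ({Subgroup.zpowers x} : Finset (Subgroup G))))} : Set (stabN ({Subgroup.zpowers x} : Finset (Subgroup G)))) :=
    ⟨⟨y, hys⟩, Subgroup.mem_centralizer_singleton_iff.2 (Subtype.ext hxy.eq.symm)⟩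
  let yg : Subgroup.centralizer ({x} : Set G) :=
    ⟨y, Subgroup.mem_centralizer_singleton_iff.2 hxy.eq.symm⟩
  have hxs' : ∃ k, orderOf (⟨x, hxs⟩ : (stabN ({Subgroup.zpowers x} : Finset (Subgroup G)))) = p ^ k := by
    simpa [← Subgroup.orderOf_coe] using hx
  have hys' : ¬ p ∣ orderOf ys := by
    rw [← Subgroup.orderOf_coe, ← Subgroup.orderOf_coe]; exact hy
  have hyg' : ¬ p ∣ orderOf yg := by rw [← Subgroup.orderOf_coe]; exact hy
  refine (sqVal_section hM (stabN ({Subgroup.zpowers x} : Finset (Subgroup G))) (inducedBlockDefined_stabN hM (isChainP_zpowers hx hx1)) hB hxs'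
    (y := ys) hys').trans ?_
  rw [sqVal_idemBar hB]
  refine Eq.trans ?_ (BlockPairing.sum_sq_section hM hx hB (y := yg) hyg').symm
  have hCN : ∀ g : G, g * x = x * g → g ∈ (stabN ({Subgroup.zpowers x} : Finset (Subgroup G))) := fun g hg => mem_stabN.2 fun Q hQ => by
    rw [Finset.mem_singleton.1 hQ]
    exact Subgroup.mem_normalizer_iff_map_conj_eq.2 (by
      rw [MonoidHom.map_zpowers]
      congr 1
      exact mul_inv_eq_iff_eq_mul.2 hg)
  let e : Subgroup.centralizer ({(⟨x, hxs⟩ : (stabN ({Subgroup.zpowers x} : Finset (Subgroup G))))} : Set (stabN ({Subgroup.zpowers x} : Finset (Subgroup G)))) ≃* Subgroup.centralizer ({x} : Set G) :=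
    { toFun := fun c => ⟨((c : (stabN ({Subgroup.zpowers x} : Finset (Subgroup G)))) : G), Subgroup.mem_centralizer_singleton_iff.2
        (congrArg Subtype.val (Subgroup.mem_centralizer_singleton_iff.1 c.2) :)⟩
      invFun := fun c => ⟨⟨(c : G), hCN _ (Subgroup.mem_centralizer_singleton_iff.1 c.2)⟩,
        Subgroup.mem_centralizer_singleton_iff.2
          (Subtype.ext (Subgroup.mem_centralizer_singleton_iff.1 c.2))⟩
      left_inv := fun _ => rfl
      right_inv := fun _ => rfl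
      map_mul' := fun _ _ => rfl }
  have hcoe : ∀ g, ((e g : Subgroup.centralizer ({x} : Set G)) : G) = ((g : stabN ({Subgroup.zpowers x} : Finset (Subgroup G))) : G) := fun g => rfl
  refine (sqVal_congr e (z := resCtr (Subgroup.centralizer ({x} : Set G))
    (idemBar M B (isBlockUnion_of_isPBlock hB))) (fun g => by
      rw [coeff_resCtr, coeff_resCtr, coeff_resCtr, hcoe]) ys).trans ?_
  rw [show e ys = yg from Subtype.ext rfl]
  refine Finset.sum_congr rfl fun ξ _ => ?_
  exact if_congr Iff.rfl rfl rfl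

/-- The value at `h` of the blocks over `B` in the stabilizer of a chain. -/
noncomputable def chainVal (M : Ideal AlgInt) [M.IsPrime] (z : Ctr (Res M) G)
    (s : Finset (Subgroup G)) (h : G) : ℂ :=
  if hh : h ∈ stabN s then
    letI := Fintype.ofFinite (stabN s)
    sqVal M (resCtr (stabN s) z) ⟨h, hh⟩
  else 0

theorem chainVal_coe {z : Ctr (Res M) G} {s : Finset (Subgroup G)} [inst : Fintype (stabN s)] {h : G}
    (hh : h ∈ stabN s) : chainVal M z s h = sqVal M (resCtr (stabN s) z) ⟨h, hh⟩ := by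
  obtain rfl : inst = Fintype.ofFinite _ := Subsingleton.elim _ _
  rw [chainVal, dif_pos hh]

theorem sum_chains (hM : Cfsg.IsPModular p M) {B : Set (IrrCharacter G)}
    (hB : Cfsg.IsPBlock M B) (C : Finset (Finset (Subgroup G)))
    (hC : ∀ s, s ∈ C ↔ IsChainP p s) {h : G} (hh : p ∣ orderOf h) :
    ∑ s ∈ C, ((-1 : ℤ) : ℂ) ^ (s.card - 1) *
        chainVal M (idemBar M B (isBlockUnion_of_isPBlock hB)) s h =
      sqVal M (idemBar M B (isBlockUnion_of_isPBlock hB)) h := by
  set z := idemBar M B (isBlockUnion_of_isPBlock hB)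
  have hpp : p.Prime := Fact.out
  obtain ⟨x, hxp⟩ := exists_isPPart hpp h
  obtain ⟨i, hi⟩ := isPPart_mem_zpowers hpp hxp
  obtain ⟨y, hxyh, hxy, hx, hy⟩ := hxp
  subst hxyh
  have hx1 : x ≠ 1 := fun h1 => hy (by simpa [h1] using hh)
  have hxmem : ∀ {S : Subgroup G}, x * y ∈ S → x ∈ S ∧ y ∈ S := fun {S} hS => by
    have h1 : x ∈ S := hi ▸ zpow_mem hS i
    exact ⟨h1, by simpa using mul_mem (inv_mem h1) hS⟩
  have hxyx : x * y * x * (x * y)⁻¹ = x := by
    rw [mul_assoc x y x, ← hxy.eq, mul_inv_rev]; group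
  have hfix : ∀ g : G, g * x = x * g → g ∈ stabN ({Subgroup.zpowers x} : Finset (Subgroup G)) :=
    fun g hg => mem_stabN.2 fun Q hQ => by
      rw [Finset.mem_singleton.1 hQ]
      exact Subgroup.mem_normalizer_iff_map_conj_eq.2 (by
        rw [MonoidHom.map_zpowers]
        congr 1
        exact mul_inv_eq_iff_eq_mul.2 hg)
  rw [← Finset.sum_filter_add_sum_filter_not C fun s : Finset (Subgroup G) => x * y ∈ stabN s,
    Finset.sum_eq_zero (s := C.filter fun s : Finset (Subgroup G) => ¬ x * y ∈ stabN s)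
      fun s hs => by rw [chainVal, dif_neg (Finset.mem_filter.1 hs).2, mul_zero], add_zero]
  have h0 : {Subgroup.zpowers x} ∈ C.filter fun s : Finset (Subgroup G) => x * y ∈ stabN s :=
    Finset.mem_filter.2 ⟨(hC _).2 (isChainP_zpowers hx hx1),
      mul_mem (hfix x rfl) (hfix y hxy.eq.symm)⟩
  rw [← Finset.add_sum_erase _ _ h0]
  have hrest : ∀ s ∈ (C.filter fun s : Finset (Subgroup G) => x * y ∈ stabN s).erase
      {Subgroup.zpowers x}, IsChainP p s ∧ x ∈ stabN s ∧ y ∈ stabN s ∧ x * y ∈ stabN s ∧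
        s ≠ {Subgroup.zpowers x} := fun s hs => by
    obtain ⟨hne, hs⟩ := Finset.mem_erase.1 hs
    obtain ⟨hsC, hsh⟩ := Finset.mem_filter.1 hs
    exact ⟨(hC s).1 hsC, (hxmem hsh).1, (hxmem hsh).2, hsh, hne⟩
  rw [Finset.sum_involution (fun s _ => toggle x s) ?_ ?_ ?_ ?_, add_zero,
    Finset.card_singleton, Nat.sub_self, pow_zero, one_mul]
  · haveI := Fintype.ofFinite (stabN ({Subgroup.zpowers x} : Finset (Subgroup G)))
    rw [chainVal_coe (mul_mem (hfix x rfl) (hfix y hxy.eq.symm))]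
    exact sqVal_zpowers hM hB hxy hx hx1 hy (hfix x rfl) (hfix y hxy.eq.symm)
  · intro s hs
    obtain ⟨hsc, hxs, hys, hsh, hne⟩ := hrest s hs
    obtain ⟨ht, -, -, -, hsign, hiff⟩ := toggle_spec hsc hx hx1 hxs hne
    have hth : x * y ∈ stabN (toggle x s) := (hiff _ hxyx).2 hsh
    obtain ⟨hxt, hyt⟩ := hxmem hth
    have hsign' : ((-1 : ℤ) : ℂ) ^ ((toggle x s).card - 1) =
        - ((-1 : ℤ) : ℂ) ^ (s.card - 1) := by
      rw [← Int.cast_pow, hsign, Int.cast_neg, Int.cast_pow]
    haveI := Fintype.ofFinite (stabN s)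
    haveI := Fintype.ofFinite (stabN (toggle x s))
    rw [hsign', chainVal_coe (mul_mem hxs hys), chainVal_coe (mul_mem hxt hyt),
      sqVal_eq_of_iff hM hB hsc ht hxy hx hy hxs hxt hys hyt hiff]
    ring
  · intro s hs _
    obtain ⟨hsc, hxs, hys, hsh, hne⟩ := hrest s hs
    exact (toggle_spec hsc hx hx1 hxs hne).2.2.1
  · intro s hs
    obtain ⟨hsc, hxs, hys, hsh, hne⟩ := hrest s hs
    obtain ⟨ht, -, -, htne, -, hiff⟩ := toggle_spec hsc hx hx1 hxs hne
    exact Finset.mem_erase.2 ⟨htne, Finset.mem_filter.2 ⟨(hC _).2 ht, (hiff _ hxyx).2 hsh⟩⟩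
  · intro s hs
    obtain ⟨hsc, hxs, hys, hsh, hne⟩ := hrest s hs
    exact (toggle_spec hsc hx hx1 hxs hne).2.1

end CfsgLib.ChainSum
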