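import Cfsg.Agent.BlockPairing.Subsections
import Cfsg.Agent.Glauberman.Setting

/-!
# Squared values of the blocks over a block on a p-section of a subgroup

`sqVal M z h` adds `|ξ h|²` over the characters `ξ` whose reduced central character does not vanish
at the central element `z`.  For a subgroup `H` through which every block is induced, the sum at
`x * y` is the sum at `y` for the centralizer of `x` in `H` (`sqVal_section`), so it only depends
on that centralizer as a subgroup of the whole group (`sqVal_congr`).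
-/

set_option autoImplicit false
set_option linter.unusedSectionVars false
set_option linter.style.haveILetI false
set_option maxHeartbeats 800000

namespace CfsgLib.ChainSum

open Cfsg CfsgLib.Blocks
open scoped ComplexConjugate

universe u v

variable {G : Type u} [Group G] [Fintype G] {M : Ideal AlgInt} [M.IsPrime] {p : ℕ}

open Classical in
/-- The squared values at `h` of the characters not vanishing at `z`. -/
noncomputable def sqVal (M : Ideal AlgInt) [M.IsPrime] {K : Type v} [Group K] [Fintype K]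
    (z : Ctr (Res M) K) (h : K) : ℂ :=
  ∑ ξ : IrrCharacter K,
    if omegaBar M ξ z ≠ 0 then (ξ : K → ℂ) h * conj ((ξ : K → ℂ) h) else 0

theorem omegaBar_congr {K K' : Type v} [Group K] [Fintype K] [Group K'] [Fintype K'] (e : K' ≃* K)
    {z : Ctr (Res M) K} {z' : Ctr (Res M) K'}
    (hz : ∀ g, (z' : MonoidAlgebra (Res M) K').coeff g = (z : MonoidAlgebra (Res M) K).coeff (e g))
    (ξ : IrrCharacter K) : omegaBar M (Glauberman.irrCongr e ξ) z' = omegaBar M ξ z := by
  obtain ⟨a, rfl⟩ := redCtr_surjective z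
  let a' : Ctr (localRing M) K' :=
    ⟨ofFun fun g => (a : MonoidAlgebra (localRing M) K).coeff (e g), mem_ctr_iff.2 fun g h => by
      simp [coeff_conj_of_mem_ctr a.2]⟩
  have hz' : z' = redCtr M a' := ctr_ext fun g => by
    rw [hz]; simp [redCtr, a']
  rw [hz', omegaBar_redCtr, omegaBar_redCtr]
  congr 1
  refine Subtype.ext ?_
  rw [coe_omegaO, coe_omegaO, omega_apply, omega_apply]
  simp only [toC, coeff_mapCtr, a', coeff_ofFun, Glauberman.irrCongr_apply, map_one]
  congr 1
  exact Fintype.sum_equiv e.toEquiv _ _ fun g => rfl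

theorem sqVal_congr {K K' : Type v} [Group K] [Fintype K] [Group K'] [Fintype K'] (e : K' ≃* K)
    {z : Ctr (Res M) K} {z' : Ctr (Res M) K'}
    (hz : ∀ g, (z' : MonoidAlgebra (Res M) K').coeff g = (z : MonoidAlgebra (Res M) K).coeff (e g))
    (h : K') : sqVal M z' h = sqVal M z (e h) := by
  unfold sqVal
  refine (Fintype.sum_equiv (Glauberman.irrCongr e) _ _ fun ξ => ?_).symm
  rw [omegaBar_congr e hz, Glauberman.irrCongr_apply]

theorem sqVal_idemBar {B : Set (IrrCharacter G)} [DecidablePred (· ∈ B)] (hB : Cfsg.IsPBlock M B)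
    (h : G) : sqVal M (idemBar M B (isBlockUnion_of_isPBlock hB)) h =
      ∑ χ : IrrCharacter G, if χ ∈ B then (χ : G → ℂ) h * conj ((χ : G → ℂ) h) else 0 := by
  refine Finset.sum_congr rfl fun χ _ => ?_
  rw [omegaBar_idemBar]
  by_cases hχ : χ ∈ B <;> simp [hχ]

variable [Fact p.Prime]

open Classical in
/-- Squared values on the p-section of `x` in a subgroup through which every block is induced. -/
theorem sqVal_section (hM : Cfsg.IsPModular p M) (H : Subgroup G) [Fintype H]
    (hdef : ∀ ψ : IrrCharacter H, Cfsg.InducedBlockDefined M H (Cfsg.blockOf M (ψ : H → ℂ)))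
    {B : Set (IrrCharacter G)} (hB : Cfsg.IsPBlock M B) {x : H} (hx : ∃ k, orderOf x = p ^ k)
    [Fintype (Subgroup.centralizer ({x} : Set H))] {y : Subgroup.centralizer ({x} : Set H)}
    (hy : ¬ p ∣ orderOf y) :
    sqVal M (resCtr H (idemBar M B (isBlockUnion_of_isPBlock hB))) (x * (y : H)) =
      sqVal M (resCtr (Subgroup.centralizer ({x} : Set H))
        (resCtr H (idemBar M B (isBlockUnion_of_isPBlock hB)))) y := by
  set w := resCtr H (idemBar M B (isBlockUnion_of_isPBlock hB))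
  -- the blocks of `H`
  let β : IrrCharacter H → Set (IrrCharacter H) := fun ψ => Cfsg.blockOf M (ψ : H → ℂ)
  set T := (Finset.univ.filter fun ψ : IrrCharacter H => omegaBar M ψ w ≠ 0).image β
  have hw : ∀ ψ φ : IrrCharacter H, φ ∈ β ψ → omegaBar M φ w = omegaBar M ψ w := fun ψ φ h => by
    rw [(sameBlock_iff ψ φ).1 (mem_blockOf.1 h)]
  have hT : ∀ β' ∈ T, Cfsg.IsPBlock M β' := fun β' h => by
    obtain ⟨ψ, -, rfl⟩ := Finset.mem_image.1 h
    exact isPBlock_blockOf ψ
  have hsel : ∀ (f : IrrCharacter H → ℂ), (∑ ψ : IrrCharacter H, if omegaBar M ψ w ≠ 0 then f ψ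
      else 0) = ∑ β' ∈ T, ∑ ψ : IrrCharacter H, if ψ ∈ β' then f ψ else 0 := fun f => by
    rw [Finset.sum_comm]
    refine Finset.sum_congr rfl fun ψ _ => ?_
    split_ifs with h
    · rw [Finset.sum_eq_single (β ψ)]
      · rw [if_pos (mem_blockOf_self ψ)]
      · exact fun b hb hne => if_neg fun hmem => hne (eq_blockOf_of_mem (hT b hb) hmem)
      · exact fun hn => absurd (Finset.mem_image_of_mem β
          (Finset.mem_filter.2 ⟨Finset.mem_univ _, h⟩)) hn
    · refine (Finset.sum_eq_zero fun b hb => if_neg fun hmem => h ?_).symm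
      obtain ⟨φ, hφ, rfl⟩ := Finset.mem_image.1 hb
      rw [hw φ ψ hmem]
      exact (Finset.mem_filter.1 hφ).2
  unfold sqVal
  rw [hsel fun ψ => (ψ : H → ℂ) (x * (y : H)) * conj ((ψ : H → ℂ) (x * (y : H)))]
  rw [← Finset.sum_coe_sort T,
    Finset.sum_congr rfl fun b _ => BlockPairing.sum_sq_section hM hx (hT b.1 b.2) hy]
  rw [Finset.sum_comm]
  refine Finset.sum_congr rfl fun ξ _ => ?_
  obtain ⟨β₀, hβ₀⟩ := induced_setup hM hx ξ
  obtain ⟨ψ₀, hψ₀⟩ := isPBlock_nonempty hβ₀.2.1
  have hom : ∀ z : Ctr (Res M) H, omegaBar M ξ (resCtr (Subgroup.centralizer ({x} : Set H)) z) =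
      omegaBar M ψ₀ z :=
    (isInducedBlock_iff _ hβ₀.1 hβ₀.2.1 (mem_blockOf_self ξ) hψ₀).1 hβ₀
  have hmem : ∀ b : T, (ξ ∈ overSet M (Subgroup.centralizer ({x} : Set H)) b.1
      (isBlockUnion_of_isPBlock (hT b.1 b.2))) ↔ b.1 = β₀ := fun b => by
    show omegaBar M ξ _ ≠ 0 ↔ _
    rw [hom, omegaBar_idemBar]
    split_ifs with hm
    · exact iff_of_true one_ne_zero (isPBlock_eq_of_mem (hT b.1 b.2) hβ₀.2.1 hm hψ₀)
    · exact iff_of_false (fun h => h rfl) fun h => hm (h ▸ hψ₀)
  split_ifs with hξ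
  · rw [hom] at hξ
    have hT₀ : β₀ ∈ T := Finset.mem_image.2 ⟨ψ₀, Finset.mem_filter.2 ⟨Finset.mem_univ _, hξ⟩,
      (eq_blockOf_of_mem hβ₀.2.1 hψ₀).symm⟩
    rw [Finset.sum_eq_single (⟨β₀, hT₀⟩ : T)]
    · rw [if_pos ((hmem _).2 rfl)]
    · exact fun b _ hne => if_neg fun hm => hne (Subtype.ext ((hmem b).1 hm))
    · exact fun h => absurd (Finset.mem_univ _) h
  · refine Finset.sum_eq_zero fun b _ => if_neg fun hm => hξ ?_
    rw [hom]
    obtain ⟨φ, hφ, hφb⟩ := Finset.mem_image.1 b.2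
    rw [hw φ ψ₀ (show ψ₀ ∈ β φ by rw [hφb, (hmem b).1 hm]; exact hψ₀)]
    exact (Finset.mem_filter.1 hφ).2

open Classical in
/-- The sum over the p-singular elements measures characters minus regular rank. -/
theorem card_sub_rank (hM : Cfsg.IsPModular p M) {K : Type v} [Group K] [Fintype K]
    (z : Ctr (Res M) K) (A : Set (IrrCharacter K)) (hAz : ∀ ξ, ξ ∈ A ↔ omegaBar M ξ z ≠ 0) :
    (Nat.card K : ℂ) * ((Nat.card A : ℂ) - (Cfsg.blockRank p A : ℂ)) =
      ∑ h : K, if p ∣ orderOf h then sqVal M z h else 0 := by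
  have hA : IsBlockUnion M A := fun ξ hξ η hη => by
    rw [hAz] at hξ ⊢
    rwa [← (sameBlock_iff ξ η).1 (mem_blockOf.1 hη)]
  have hK : (Nat.card K : ℂ) ≠ 0 := Nat.cast_ne_zero.2 Nat.card_pos.ne'
  have hk : (Nat.card A : ℂ) =
      ∑ ξ : IrrCharacter K, if ξ ∈ A then Cfsg.classInner (ξ : K → ℂ) (ξ : K → ℂ) else 0 := by
    rw [Finset.sum_congr rfl fun ξ _ => by rw [Characters.classInner_irr ξ ξ, if_pos rfl],
      Finset.sum_boole, Nat.card_eq_fintype_card, Fintype.card_subtype]
  rw [hk, BlockPairing.blockRank_eq_sum hM hA, ← Finset.sum_sub_distrib, Finset.mul_sum]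
  unfold sqVal
  rw [Finset.sum_congr rfl (g := fun h : K => ∑ ξ : IrrCharacter K, if p ∣ orderOf h ∧
    ξ ∈ A then (ξ : K → ℂ) h * conj ((ξ : K → ℂ) h) else 0) fun h _ => by
      by_cases hh : p ∣ orderOf h <;> simp [hh, ← hAz], Finset.sum_comm]
  refine Finset.sum_congr rfl fun ξ _ => ?_
  by_cases h : ξ ∈ A
  · simp only [h, if_true, and_true, Cfsg.classInner, BlockPairing.regInner]
    rw [← mul_sub, ← mul_assoc, mul_inv_cancel₀ hK, one_mul, ← Finset.sum_sub_distrib]
    exact Finset.sum_congr rfl fun g _ => by split_ifs <;> simp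
  · simp [h]

end CfsgLib.ChainSum
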